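import Groth.Prelude.Def_DiffOp
import Mathlib.RingTheory.Kaehler.Basic
import Mathlib.RingTheory.Adjoin.Basic
import Mathlib.Algebra.BigOperators.Group.Finset.Basic
import Mathlib.Data.Fintype.Powerset
import Mathlib.Algebra.BigOperators.Group.Finset.Powerset
import Mathlib.Tactic.Abel
import Mathlib.Tactic.Module

universe u v
open scoped TensorProduct

set_option linter.unusedSectionVars false
namespace Groth.Agent.DiffOps
open Diff16

variable {A B : Type u} [CommRing A] [CommRing B] [Algebra A B]
variable {M N P : Type v} [AddCommGroup M] [Module A M] [Module B M] [IsScalarTower A B M]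
  [AddCommGroup N] [Module A N] [Module B N] [IsScalarTower A B N]
  [AddCommGroup P] [Module A P] [Module B P] [IsScalarTower A B P]


@[simp] theorem comm_apply (D : M →ₗ[A] N) (b : B) (m : M) :
    commutator A B M N D b m = D (b • m) - b • D m := rfl

theorem diff_zero_iff {D : M →ₗ[A] N} :
    IsDiffOpLE A B M N 0 D ↔ ∀ (b : B) (m : M), D (b • m) = b • D m := Iff.rfl

theorem diff_succ_iff {n : ℕ} {D : M →ₗ[A] N} :
    IsDiffOpLE A B M N (n + 1) D ↔ ∀ b, IsDiffOpLE A B M N n (commutator A B M N D b) := Iff.rfl

theorem diff_of_zero (n : ℕ) : IsDiffOpLE A B M N n 0 := by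
  induction n with
  | zero => intro b m; simp
  | succ n ih =>
    intro b
    convert ih using 1
    ext m; simp

theorem diff_add : ∀ {n : ℕ} {D E : M →ₗ[A] N}, IsDiffOpLE A B M N n D →
    IsDiffOpLE A B M N n E → IsDiffOpLE A B M N n (D + E) := by
  intro n
  induction n with
  | zero => intro D E hD hE b m; simp [hD b m, hE b m]
  | succ n ih =>
    intro D E hD hE b
    convert ih (hD b) (hE b) using 1
    ext m; simp; abel

theorem diff_smul : ∀ {n : ℕ} {D : M →ₗ[A] N} (c : B), IsDiffOpLE A B M N n D →
    IsDiffOpLE A B M N n (c • D) := by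
  intro n
  induction n with
  | zero => intro D c hD b m; simp [hD b m, smul_comm c b]
  | succ n ih =>
    intro D c hD b
    convert ih c (hD b) using 1
    ext m; simp [smul_sub, smul_comm c b]

theorem diff_neg {n : ℕ} {D : M →ₗ[A] N} (hD : IsDiffOpLE A B M N n D) :
    IsDiffOpLE A B M N n (-D) := by
  convert diff_smul (-1 : B) hD using 1
  ext m; simp

theorem diff_sub {n : ℕ} {D E : M →ₗ[A] N} (hD : IsDiffOpLE A B M N n D)
    (hE : IsDiffOpLE A B M N n E) : IsDiffOpLE A B M N n (D - E) := by
  rw [sub_eq_add_neg]; exact diff_add hD (diff_neg hE)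

theorem diff_sum {ι : Type*} {n : ℕ} (s : Finset ι) (f : ι → M →ₗ[A] N)
    (h : ∀ i ∈ s, IsDiffOpLE A B M N n (f i)) : IsDiffOpLE A B M N n (∑ i ∈ s, f i) :=
  Finset.sum_induction f _ (fun _ _ => diff_add) (diff_of_zero n) h

theorem diff_succ : ∀ {n : ℕ} {D : M →ₗ[A] N}, IsDiffOpLE A B M N n D →
    IsDiffOpLE A B M N (n + 1) D := by
  intro n
  induction n with
  | zero =>
    intro D hD b c m
    simp [hD b]
  | succ n ih => intro D hD b; exact ih (hD b)

theorem diff_mono {k n : ℕ} (h : k ≤ n) {D : M →ₗ[A] N} (hD : IsDiffOpLE A B M N k D) :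
    IsDiffOpLE A B M N n D := by
  induction h with
  | refl => exact hD
  | step _ ih => exact diff_succ ih

/-- precomposition with a scalar -/
theorem diff_precomp : ∀ {n : ℕ} {D : M →ₗ[A] N} (c : B), IsDiffOpLE A B M N n D →
    IsDiffOpLE A B M N n (D ∘ₗ (LinearMap.lsmul B M c).restrictScalars A) := by
  intro n
  induction n with
  | zero => intro D c hD b m; simp [smul_comm c b, hD b]
  | succ n ih =>
    intro D c hD b
    convert ih c (hD b) using 1
    ext m; simp [smul_comm c b]

theorem comm_mul (D : M →ₗ[A] N) (b c : B) :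
    commutator A B M N D (b * c) =
      commutator A B M N D b ∘ₗ (LinearMap.lsmul B M c).restrictScalars A
        + b • commutator A B M N D c := by
  ext m; simp [mul_smul, smul_sub]

theorem comm_add (D : M →ₗ[A] N) (b c : B) :
    commutator A B M N D (b + c) = commutator A B M N D b + commutator A B M N D c := by
  ext m; simp [add_smul]; abel

theorem comm_algebraMap (D : M →ₗ[A] N) (a : A) :
    commutator A B M N D (algebraMap A B a) = 0 := by
  ext m; simp [algebraMap_smul]

theorem diff_succ_of_adjoin {s : Set B} (hs : Algebra.adjoin A s = ⊤) {n : ℕ} {D : M →ₗ[A] N}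
    (hD : ∀ g ∈ s, IsDiffOpLE A B M N n (commutator A B M N D g)) :
    IsDiffOpLE A B M N (n + 1) D := by
  intro b
  have hb : b ∈ Algebra.adjoin A s := by rw [hs]; trivial
  induction hb using Algebra.adjoin_induction with
  | mem x hx => exact hD x hx
  | algebraMap r => rw [comm_algebraMap]; exact diff_of_zero n
  | add x y _ _ hx hy => rw [comm_add]; exact diff_add hx hy
  | mul x y _ _ hx hy => rw [comm_mul]; exact diff_add (diff_precomp y hx) (diff_smul x hy)

theorem diff_comp : ∀ {n n' : ℕ} {D : M →ₗ[A] N} {D' : N →ₗ[A] P},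
    IsDiffOpLE A B M N n D → IsDiffOpLE A B N P n' D' →
    IsDiffOpLE A B M P (n + n') (D' ∘ₗ D) := by
  suffices H : ∀ (k n n' : ℕ) (D : M →ₗ[A] N) (D' : N →ₗ[A] P), n + n' = k →
      IsDiffOpLE A B M N n D → IsDiffOpLE A B N P n' D' →
      IsDiffOpLE A B M P k (D' ∘ₗ D) by
    intro n n' D D' h h'; exact H _ n n' D D' rfl h h'
  intro k
  induction k with
  | zero =>
    intro n n' D D' hk h h'
    obtain ⟨rfl, rfl⟩ : n = 0 ∧ n' = 0 := by omega
    intro b m
    simp [h b, h' b]
  | succ k ih =>
    intro n n' D D' hk h h' b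
    have e : commutator A B M P (D' ∘ₗ D) b =
        commutator A B N P D' b ∘ₗ D + D' ∘ₗ commutator A B M N D b := by
      ext m; simp [map_sub]
    rw [e]
    refine diff_add ?_ ?_
    · match n', h' with
      | 0, h' =>
        have : commutator A B N P D' b = 0 := by ext x; simp [h' b]
        rw [this, LinearMap.zero_comp]; exact diff_of_zero _
      | j + 1, h' => exact ih n j _ _ (by omega) h (h' b)
    · match n, h with
      | 0, h =>
        have : commutator A B M N D b = 0 := by ext x; simp [h b]
        rw [this, LinearMap.comp_zero]; exact diff_of_zero _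
      | j + 1, h => exact ih j n' _ _ (by omega) (h b) h'

section alt

/-- alternating sum over the subsets of a finset -/
noncomputable def altSum {ι : Type*} [DecidableEq ι] (D : M →ₗ[A] N) (b : ι → B) (s : Finset ι)
    (t : M) : N :=
  ∑ H ∈ s.powerset, ((-1 : ℤ) ^ H.card) • ((∏ i ∈ H, b i) • D ((∏ i ∈ s \ H, b i) • t))

theorem altSum_insert {ι : Type*} [DecidableEq ι] (D : M →ₗ[A] N) (b : ι → B) {s : Finset ι}
    {a : ι} (ha : a ∉ s) (t : M) :
    altSum D b (insert a s) t = altSum (commutator A B M N D (b a)) b s t := by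
  unfold altSum
  rw [Finset.sum_powerset_insert ha, ← Finset.sum_add_distrib]
  refine Finset.sum_congr rfl fun H hH => ?_
  have haH : a ∉ H := fun h => ha (Finset.mem_powerset.1 hH h)
  rw [Finset.insert_sdiff_of_notMem _ haH, Finset.prod_insert (by simp [ha]),
    Finset.insert_sdiff_insert, Finset.prod_insert haH, Finset.card_insert_of_notMem haH,
    Finset.sdiff_insert_of_notMem ha]
  simp only [comm_apply, mul_smul, smul_sub, pow_succ, mul_neg, mul_one, neg_smul]
  rw [smul_comm (b a) (∏ i ∈ H, b i)]
  abel

theorem altSum_congr {ι : Type*} [DecidableEq ι] (D : M →ₗ[A] N) {b c : ι → B} {s : Finset ι}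
    (h : ∀ i ∈ s, b i = c i) (t : M) : altSum D b s t = altSum D c s t := by
  unfold altSum
  refine Finset.sum_congr rfl fun H hH => ?_
  rw [Finset.prod_congr rfl fun i hi => h i (Finset.mem_powerset.1 hH hi),
    Finset.prod_congr rfl fun i hi => h i (Finset.mem_sdiff.1 hi).1]

theorem altSum_eq_zero : ∀ {n : ℕ} {D : M →ₗ[A] N}, IsDiffOpLE A B M N n D →
    ∀ {ι : Type*} [DecidableEq ι] (b : ι → B) (s : Finset ι), s.card = n + 1 → ∀ t,
      altSum D b s t = 0 := by
  intro n
  induction n with
  | zero =>
    intro D hD ι _ b s hs t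
    obtain ⟨a, rfl⟩ := Finset.card_eq_one.1 hs
    rw [← insert_empty_eq a, altSum_insert _ _ (Finset.notMem_empty a)]
    simp [altSum, hD (b a)]
  | succ n ih =>
    intro D hD ι _ b s hs t
    obtain ⟨a, s', ha, rfl, hs'⟩ := Finset.card_eq_succ.1 hs
    rw [altSum_insert _ _ ha]
    exact ih (hD (b a)) b s' hs' t

theorem diff_of_altSum {ι : Type*} [DecidableEq ι] : ∀ {n : ℕ} {D : M →ₗ[A] N} (s : Finset ι),
    s.card = n + 1 → (∀ (b : ι → B) t, altSum D b s t = 0) → IsDiffOpLE A B M N n D := by
  intro n
  induction n with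
  | zero =>
    intro D s hs h c m
    obtain ⟨a, rfl⟩ := Finset.card_eq_one.1 hs
    have := h (fun _ => c) m
    rw [← insert_empty_eq a, altSum_insert _ _ (Finset.notMem_empty a)] at this
    simpa [altSum, sub_eq_zero] using this
  | succ n ih =>
    intro D s hs h c
    obtain ⟨a, s', ha, rfl, hs'⟩ := Finset.card_eq_succ.1 hs
    refine ih s' hs' fun b t => ?_
    have := h (Function.update b a c) t
    rw [altSum_insert _ _ ha, Function.update_self] at this
    rw [← this]
    exact altSum_congr _ (fun i hi => (Function.update_of_ne (fun e => ha (by rwa [← e])) c b).symm) t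

end alt

section lin

variable {N' : Type u} [AddCommGroup N'] [Module A N'] [Module B N'] [IsScalarTower A B N']

@[simp] theorem linearize_tmul (D : B →ₗ[A] N') (b m : B) :
    linearize A B B N' D (b ⊗ₜ m) = b • D m := rfl

theorem linearize_d_mul (D : B →ₗ[A] N') (b : B) (x : B ⊗[A] B) :
    linearize A B B N' D (((1 : B) ⊗ₜ[A] b - b ⊗ₜ[A] (1 : B)) * x) =
      linearize A B B N' (commutator A B B N' D b) x := by
  induction x using TensorProduct.induction_on with
  | zero => simp
  | tmul c m => simp [sub_mul, smul_sub, mul_smul, smul_comm b c]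
  | add x y hx hy => simp only [mul_add, map_add, hx, hy]

theorem linearize_of_linear {D : B →ₗ[A] N'} (hD : IsDiffOpLE A B B N' 0 D) (x : B ⊗[A] B) :
    linearize A B B N' D x = D (Algebra.TensorProduct.lmul' A (S := B) x) := by
  induction x using TensorProduct.induction_on with
  | zero => simp
  | tmul c m => simp [← hD c m]
  | add x y hx hy => simp only [map_add, hx, hy]

theorem diff_iff_linearize : ∀ (n : ℕ) (D : B →ₗ[A] N'),
    IsDiffOpLE A B B N' n D ↔
      ∀ x ∈ (KaehlerDifferential.ideal A B) ^ (n + 1), linearize A B B N' D x = 0 := by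
  intro n
  induction n with
  | zero =>
    intro D
    rw [zero_add, pow_one]
    refine ⟨fun hD x hx => ?_, fun h b m => ?_⟩
    · rw [linearize_of_linear hD, show Algebra.TensorProduct.lmul' A (S := B) x = 0 from hx, map_zero]
    · have := h _ (Ideal.mul_mem_right (1 ⊗ₜ[A] m) _
        (KaehlerDifferential.one_smul_sub_smul_one_mem_ideal A b))
      rw [linearize_d_mul] at this
      simpa [sub_eq_zero] using this
  | succ n ih =>
    intro D
    constructor
    · intro hD x hx
      rw [pow_succ' _ (n + 1)] at hx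
      refine Submodule.mul_induction_on hx (fun y hy z hz => ?_) (fun y z hy hz => by
        rw [map_add, hy, hz, add_zero])
      rw [← KaehlerDifferential.span_range_eq_ideal] at hy
      revert z
      refine Submodule.span_induction ?_ ?_ ?_ ?_ hy
      · rintro _ ⟨b, rfl⟩ z hz
        rw [linearize_d_mul]
        exact (ih _).1 (hD b) z hz
      · intro z _; simp
      · intro p q _ _ hp hq z hz
        rw [add_mul, map_add, hp z hz, hq z hz, add_zero]
      · intro c p _ hp z hz
        rw [smul_eq_mul, mul_comm c p, mul_assoc]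
        exact hp _ (Ideal.mul_mem_left _ c hz)
    · intro h b
      rw [ih]
      intro x hx
      rw [← linearize_d_mul]
      refine h _ ?_
      rw [pow_succ' _ (n + 1)]
      exact Ideal.mul_mem_mul (KaehlerDifferential.one_smul_sub_smul_one_mem_ideal A b) hx

end lin

end Groth.Agent.DiffOps
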